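import Cfsg.Agent.H6.LR.B2
import Cfsg.Agent.H6.LR.H.Main

set_option autoImplicit false
set_option maxRecDepth 100000
set_option Elab.async false

namespace Cfsg.H6.LR.H

theorem cm {u v : List ℕ} (h : chk (u ++ v ++ invW 1486034431776358958537884813664031080579328 (v ++ u)) = true) :
    Commute (evL ev u) (evL ev v) := by
  have := eq_of h
  rwa [evL_append, evL_append] at this

theorem cenY {z : Grp} (h : Commute z (evL ev [11])) : z ∈ fixS φY [0] :=
  cent_of_fix hφY (Ws := [[nat_lit 11], [nat_lit 13], [nat_lit 15], [nat_lit 17], [nat_lit 14], [nat_lit 16]]) (U := [[1], [2,7]]) (us := unp 179 (nat_lit 0x47b1040047b101001843010009a6040011f9030024f004000c4a0300068104001e0404001e04010000e7020043d3040010870500108702001a1005003f0d040004e9050005320500053202003aa70400374e05000429030039a6010023c102000e820500046b0300071b0500071b02001b9204000a1805000a1803000a18020043d8040030bd050030bd030037a10500195b0400195b0300195b01001189040011890100098c0500098c020003af0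3005e1805005e1802001dcd02002250050009bb040009bb030004d9050004d902002468020025710400257101000987050001d9050001d90200208e04000ac905000ac903000ac902001d2f03000ae504000ae501003adc050049c904003e0303000d0901000e38010049d6050049d602000036030038e804002d5403002d54020037df050037df02003a98040020c3050020c3030020c30200035d0400035d0300035d010038e1040038e1030038e101000031030023890400238901003d6105003d6102000d6b04000d6b010031db0200007c03003f5a05003f5a0200127705001277040056ab0300321d0400321d010011be03000ea105000ea102002253050022530400376d0500376d0300376d0200006503000aec04000aec03000aec01001d4c05001d4c02003f1404003f1403003f1401003a1605003a1604003a16020000780300007802003fcb04003fcb03003fcb010047f4040047f4030047f401003ab505003ab50200005202003e0405003e0404003e04020000060300005a0400005a0300005a0100392e0400392e0300392e01000762050007620200408504004085030040850100009105000091020020de050020de040020de0200008d0400008d0300008d0100233f0500233f020000050300003d0400003d0300003d0100003905000039020015820500158204001582020000f1040000f1030000470500004703000047020000010500000104000001030000010200000101))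
    (fun g hg => Subgroup.mem_centralizer_singleton_iff.mp ((gen_le (K := Subgroup.centralizer {evL ev [11]})
      fun w hw => Subgroup.mem_centralizer_singleton_iff.mpr
        (cm (by clear * - hw; revert w; decide +kernel))) (stab hg))) ltY
    (fun u hu c => hφM.mov (bs := M.bs) (w := u ++ [11] ++ invW 1486034431776358958537884813664031080579328 ([11] ++ u))
      (by clear * - hu; revert u; decide +kernel) (by
        rw [evL_append, evL_invW hev, evL_append, evL_append, c.eq, mul_inv_cancel]))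
    (by decide +kernel) z h

theorem oW : lvlChk Y.img 30800 18 [0] (7, [[nat_lit 11], [nat_lit 13], [nat_lit 15], [nat_lit 17], [nat_lit 14], [nat_lit 16]], unp 179 (nat_lit 0x3e0303003b3301003adc04003acc040039a60100392e010030bd01001dd703002d54010025710400233f050022f905002121010020c3040012770100208e050020300500203002001e0404001d6a05001b92050019ab050018430100158001001512050015120200150a050014fa02001481050010620500106202000e8204000e8201000d6b02000c9605000b4305000aec05000ac90500099a0400099a010006750500067502000a180300071b0500071b0300035d0500035d0300071b01000a18010009a60100098c0500098c0400098c0200098c010005320300025f0500025f0200021d030001d9050001d9040001d9020001d9010000e7040000e7030000e7010004af050004af0200026203000262020005320200053201000e3801000d0905000d0903000c4a05000c4a02000a2c05000a2c020004d9040004d9010008db050008db040008db020008db0100034904000349030003490100077f0500077f020006bb03000681020009bb030008780500087803000878020004290500042903000429010009b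b010004e9040004e9030004e9010004ca050004ca020004ca0100046b0300017f0500017f02000259030002590200046b020003af040003af030003af01001e1505001e1502001d5004001d5001001a1005001a10020010870500108702000ae504000ae501001d2f050016a1050016a102000c7305000c73020004c5040004c5010018c30500163205001632020015820500158202001301030011be03000987050009870200076205000762020000f1030000910300008d0300007c030000780300005d03000078010000650300005a03000052030000470300000503000005020000470200003d0300003903000039020000010400000103000001020000010100003d020000060300003d010000520100004d0300004d0100003605000036030000360200003105000031030000310200003601000065010000070500000702)) = true := by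
  decide +kernel

def Lw : List (List ℕ) := [[], [nat_lit 13, nat_lit 15, nat_lit 13, nat_lit 16, nat_lit 13, nat_lit 15, nat_lit 13, nat_lit 16], [nat_lit 15, nat_lit 13, nat_lit 16, nat_lit 13, nat_lit 15, nat_lit 13, nat_lit 16], [nat_lit 14], [nat_lit 11], [nat_lit 11, nat_lit 13, nat_lit 15, nat_lit 13, nat_lit 16, nat_lit 13, nat_lit 15, nat_lit 13, nat_lit 16], [nat_lit 13], [nat_lit 15, nat_lit 13, nat_lit 15, nat_lit 14, nat_lit 15, nat_lit 13, nat_lit 15], [nat_lit 12, nat_lit 13, nat_lit 15, nat_lit 13, nat_lit 16, nat_lit 13, nat_lit 15, nat_lit 13, nat_lit 16], [nat_lit 12], [nat_lit 16, nat_lit 14, nat_lit 17, nat_lit 16, nat_lit 13, nat_lit 16, nat_lit 14, nat_lit 17, nat_lit 16], [nat_lit 12, nat_lit 15, nat_lit 14, nat_lit 17, nat_lit 15, nat_lit 13, nat_lit 15, nat_lit 14, nat_lit 17, nat_lit 15, nat_lit 17], [nat_lit 11, nat_lit 17, nat_lit 15, nat_lit 13, nat_lit 17, nat_lit 15, nat_lit 14, nat_lit 15, nat_lit 13, nat_lit 17, nat_lit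 15, nat_lit 17], [nat_lit 15, nat_lit 17, nat_lit 16, nat_lit 13, nat_lit 15, nat_lit 17, nat_lit 16], [nat_lit 12, nat_lit 16, nat_lit 17, nat_lit 15, nat_lit 13, nat_lit 16, nat_lit 17, nat_lit 15, nat_lit 17], [nat_lit 11, nat_lit 17, nat_lit 16, nat_lit 13, nat_lit 17, nat_lit 16, nat_lit 14, nat_lit 16, nat_lit 13, nat_lit 17, nat_lit 16], [nat_lit 11, nat_lit 17, nat_lit 15, nat_lit 13, nat_lit 15, nat_lit 14, nat_lit 15, nat_lit 13, nat_lit 15, nat_lit 17], [nat_lit 11, nat_lit 17, nat_lit 15, nat_lit 13, nat_lit 15, nat_lit 14, nat_lit 15, nat_lit 13, nat_lit 15], [nat_lit 16, nat_lit 17, nat_lit 15, nat_lit 13, nat_lit 16, nat_lit 17, nat_lit 15], [nat_lit 12, nat_lit 16, nat_lit 14, nat_lit 15, nat_lit 13, nat_lit 16, nat_lit 17, nat_lit 16, nat_lit 13, nat_lit 15, nat_lit 14, nat_lit 16], [nat_lit 12, nat_lit 16, nat_lit 14, nat_lit 17, nat_lit 16, nat_lit 13, nat_lit 16, nat_lit 14, nat_lit 17, nat_lit 16, nat_lit 17], [nat_lit 11, nat_lit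 15, nat_lit 14, nat_lit 17, nat_lit 15, nat_lit 13, nat_lit 15, nat_lit 14, nat_lit 17, nat_lit 15], [nat_lit 11, nat_lit 15, nat_lit 13, nat_lit 15, nat_lit 14, nat_lit 15, nat_lit 13, nat_lit 15, nat_lit 17], [nat_lit 11, nat_lit 13, nat_lit 17], [nat_lit 16, nat_lit 17, nat_lit 15, nat_lit 14, nat_lit 16, nat_lit 17, nat_lit 15, nat_lit 17], [nat_lit 12, nat_lit 17, nat_lit 16, nat_lit 14, nat_lit 17, nat_lit 16, nat_lit 13, nat_lit 16, nat_lit 14, nat_lit 17, nat_lit 16], [nat_lit 11, nat_lit 16, nat_lit 13, nat_lit 17, nat_lit 16, nat_lit 14, nat_lit 16, nat_lit 13, nat_lit 17, nat_lit 16, nat_lit 17], [nat_lit 15, nat_lit 13, nat_lit 17, nat_lit 15, nat_lit 14, nat_lit 15, nat_lit 13, nat_lit 17, nat_lit 15], [nat_lit 12, nat_lit 17, nat_lit 15, nat_lit 13, nat_lit 16, nat_lit 13, nat_lit 15, nat_lit 13, nat_lit 16], [nat_lit 12, nat_lit 17, nat_lit 15, nat_lit 13, nat_lit 16, nat_lit 13, nat_lit 15, nat_lit 13, nat_lit 16, nat_lit 17], [nat_lit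 12, nat_lit 14, nat_lit 17], [nat_lit 12, nat_lit 15, nat_lit 13, nat_lit 16, nat_lit 13, nat_lit 15, nat_lit 13, nat_lit 16, nat_lit 17], [nat_lit 12, nat_lit 17, nat_lit 15, nat_lit 14, nat_lit 17, nat_lit 15, nat_lit 13, nat_lit 15, nat_lit 14, nat_lit 17, nat_lit 15], [nat_lit 11, nat_lit 15, nat_lit 17, nat_lit 16, nat_lit 14, nat_lit 15, nat_lit 17, nat_lit 16, nat_lit 17], [nat_lit 12, nat_lit 16, nat_lit 13, nat_lit 17, nat_lit 16, nat_lit 14, nat_lit 16, nat_lit 13, nat_lit 17, nat_lit 16], [nat_lit 11, nat_lit 15, nat_lit 13, nat_lit 17, nat_lit 15, nat_lit 14, nat_lit 15, nat_lit 13, nat_lit 17, nat_lit 15, nat_lit 17], [nat_lit 16, nat_lit 17, nat_lit 15, nat_lit 14, nat_lit 16, nat_lit 17, nat_lit 15], [nat_lit 11, nat_lit 16, nat_lit 13, nat_lit 15, nat_lit 14, nat_lit 16, nat_lit 17, nat_lit 16, nat_lit 14, nat_lit 15, nat_lit 13, nat_lit 16], [nat_lit 11, nat_lit 17, nat_lit 15, nat_lit 13, nat_lit 17, nat_lit 15, nat_lit 14, nat_lit 15,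 nat_lit 13, nat_lit 17, nat_lit 15], [nat_lit 15, nat_lit 17, nat_lit 16, nat_lit 13, nat_lit 15, nat_lit 17, nat_lit 16, nat_lit 17], [nat_lit 11, nat_lit 15, nat_lit 13, nat_lit 16, nat_lit 14, nat_lit 15, nat_lit 17, nat_lit 15, nat_lit 14, nat_lit 16, nat_lit 13, nat_lit 15], [nat_lit 15, nat_lit 17, nat_lit 16, nat_lit 14, nat_lit 15, nat_lit 17, nat_lit 16], [nat_lit 11, nat_lit 15, nat_lit 13, nat_lit 16, nat_lit 13, nat_lit 15, nat_lit 13, nat_lit 16], [nat_lit 11, nat_lit 14], [nat_lit 11, nat_lit 17, nat_lit 16, nat_lit 14, nat_lit 17, nat_lit 16, nat_lit 13, nat_lit 16, nat_lit 14, nat_lit 17, nat_lit 16], [nat_lit 12, nat_lit 16, nat_lit 17, nat_lit 15, nat_lit 14, nat_lit 16, nat_lit 17, nat_lit 15, nat_lit 17], [nat_lit 12, nat_lit 13], [nat_lit 12, nat_lit 15, nat_lit 13, nat_lit 15, nat_lit 14, nat_lit 15, nat_lit 13, nat_lit 15], [nat_lit 15, nat_lit 14, nat_lit 17, nat_lit 15, nat_lit 13, nat_lit 15, nat_lit 14, nat_lit 17, nat_lit 15],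 [nat_lit 11, nat_lit 16, nat_lit 14, nat_lit 17, nat_lit 16, nat_lit 13, nat_lit 16, nat_lit 14, nat_lit 17, nat_lit 16, nat_lit 17], [nat_lit 11, nat_lit 15, nat_lit 13, nat_lit 15, nat_lit 14, nat_lit 15, nat_lit 13, nat_lit 15], [nat_lit 11, nat_lit 13], [nat_lit 14, nat_lit 15, nat_lit 17, nat_lit 16, nat_lit 13, nat_lit 15, nat_lit 17, nat_lit 16], [nat_lit 12, nat_lit 15, nat_lit 14, nat_lit 16, nat_lit 13, nat_lit 15, nat_lit 17, nat_lit 16, nat_lit 14, nat_lit 15, nat_lit 13, nat_lit 16], [nat_lit 16, nat_lit 14, nat_lit 15, nat_lit 13, nat_lit 16, nat_lit 17, nat_lit 16, nat_lit 13, nat_lit 15, nat_lit 14, nat_lit 16], [nat_lit 11, nat_lit 16, nat_lit 17, nat_lit 15, nat_lit 13, nat_lit 16, nat_lit 17, nat_lit 15], [nat_lit 14, nat_lit 17, nat_lit 15, nat_lit 13, nat_lit 17, nat_lit 15, nat_lit 14, nat_lit 15, nat_lit 13, nat_lit 17, nat_lit 15], [nat_lit 13, nat_lit 16, nat_lit 17, nat_lit 15, nat_lit 14, nat_lit 16, nat_lit 17, nat_lit 15,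 nat_lit 17], [nat_lit 12, nat_lit 15, nat_lit 17, nat_lit 16, nat_lit 13, nat_lit 15, nat_lit 17, nat_lit 16], [nat_lit 17, nat_lit 15, nat_lit 13, nat_lit 17, nat_lit 15, nat_lit 14, nat_lit 15, nat_lit 13, nat_lit 17, nat_lit 15, nat_lit 17], [nat_lit 11, nat_lit 17, nat_lit 15, nat_lit 13, nat_lit 16, nat_lit 13, nat_lit 15, nat_lit 13, nat_lit 16], [nat_lit 11, nat_lit 17, nat_lit 15, nat_lit 13, nat_lit 16, nat_lit 13, nat_lit 15, nat_lit 13, nat_lit 16, nat_lit 17], [nat_lit 12, nat_lit 14], [nat_lit 12, nat_lit 15, nat_lit 13, nat_lit 16, nat_lit 13, nat_lit 15, nat_lit 13, nat_lit 16], [nat_lit 12, nat_lit 15, nat_lit 13, nat_lit 16, nat_lit 14, nat_lit 15, nat_lit 17, nat_lit 16, nat_lit 13, nat_lit 15, nat_lit 14, nat_lit 16], [nat_lit 14, nat_lit 16, nat_lit 17, nat_lit 15, nat_lit 13, nat_lit 16, nat_lit 17, nat_lit 15], [nat_lit 11, nat_lit 15, nat_lit 17, nat_lit 16, nat_lit 13, nat_lit 15, nat_lit 17, nat_lit 16], [nat_lit 15, nat_lit 14,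 nat_lit 16, nat_lit 13, nat_lit 15, nat_lit 17, nat_lit 15, nat_lit 13, nat_lit 16, nat_lit 14, nat_lit 15], [nat_lit 11, nat_lit 13, nat_lit 15, nat_lit 14, nat_lit 17, nat_lit 15, nat_lit 13, nat_lit 15, nat_lit 14, nat_lit 17, nat_lit 15], [nat_lit 14, nat_lit 15, nat_lit 13, nat_lit 17, nat_lit 15, nat_lit 14, nat_lit 15, nat_lit 13, nat_lit 17, nat_lit 15, nat_lit 17], [nat_lit 12, nat_lit 16, nat_lit 17, nat_lit 15, nat_lit 13, nat_lit 16, nat_lit 17, nat_lit 15], [nat_lit 11, nat_lit 16, nat_lit 14, nat_lit 15, nat_lit 13, nat_lit 16, nat_lit 17, nat_lit 16, nat_lit 13, nat_lit 15, nat_lit 14, nat_lit 16], [nat_lit 11, nat_lit 16, nat_lit 17, nat_lit 15, nat_lit 14, nat_lit 16, nat_lit 17, nat_lit 15], [nat_lit 17, nat_lit 16, nat_lit 14, nat_lit 17, nat_lit 16, nat_lit 13, nat_lit 16, nat_lit 14, nat_lit 17, nat_lit 16, nat_lit 17], [nat_lit 11, nat_lit 14, nat_lit 17], [nat_lit 11, nat_lit 15, nat_lit 13, nat_lit 16, nat_lit 13, nat_lit 15, nat_lit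 13, nat_lit 16, nat_lit 17], [nat_lit 12, nat_lit 17, nat_lit 16, nat_lit 13, nat_lit 17, nat_lit 16, nat_lit 14, nat_lit 16, nat_lit 13, nat_lit 17, nat_lit 16], [nat_lit 16, nat_lit 17, nat_lit 15, nat_lit 13, nat_lit 16, nat_lit 17, nat_lit 15, nat_lit 17], [nat_lit 12, nat_lit 13, nat_lit 17], [nat_lit 12, nat_lit 15, nat_lit 13, nat_lit 15, nat_lit 14, nat_lit 15, nat_lit 13, nat_lit 15, nat_lit 17], [nat_lit 12, nat_lit 15, nat_lit 14, nat_lit 17, nat_lit 15, nat_lit 13, nat_lit 15, nat_lit 14, nat_lit 17, nat_lit 15], [nat_lit 16, nat_lit 14, nat_lit 17, nat_lit 16, nat_lit 13, nat_lit 16, nat_lit 14, nat_lit 17, nat_lit 16, nat_lit 17], [nat_lit 12, nat_lit 15, nat_lit 13, nat_lit 16, nat_lit 14, nat_lit 15, nat_lit 17, nat_lit 15, nat_lit 14, nat_lit 16, nat_lit 13, nat_lit 15], [nat_lit 11, nat_lit 15, nat_lit 17, nat_lit 16, nat_lit 14, nat_lit 15, nat_lit 17, nat_lit 16], [nat_lit 12, nat_lit 15, nat_lit 17, nat_lit 16, nat_lit 13, nat_lit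 15, nat_lit 17, nat_lit 16, nat_lit 17], [nat_lit 17, nat_lit 15, nat_lit 13, nat_lit 17, nat_lit 15, nat_lit 14, nat_lit 15, nat_lit 13, nat_lit 17, nat_lit 15], [nat_lit 17, nat_lit 15, nat_lit 14, nat_lit 17, nat_lit 15, nat_lit 13, nat_lit 15, nat_lit 14, nat_lit 17, nat_lit 15], [nat_lit 12, nat_lit 15, nat_lit 17, nat_lit 16, nat_lit 14, nat_lit 15, nat_lit 17, nat_lit 16, nat_lit 17], [nat_lit 11, nat_lit 17], [nat_lit 11, nat_lit 13, nat_lit 15, nat_lit 13, nat_lit 16, nat_lit 13, nat_lit 15, nat_lit 13, nat_lit 16, nat_lit 17], [nat_lit 16, nat_lit 13, nat_lit 17, nat_lit 16, nat_lit 14, nat_lit 16, nat_lit 13, nat_lit 17, nat_lit 16], [nat_lit 12, nat_lit 15, nat_lit 13, nat_lit 17, nat_lit 15, nat_lit 14, nat_lit 15, nat_lit 13, nat_lit 17, nat_lit 15, nat_lit 17], [nat_lit 11, nat_lit 15, nat_lit 14, nat_lit 17, nat_lit 15, nat_lit 13, nat_lit 15, nat_lit 14, nat_lit 17, nat_lit 15, nat_lit 17], [nat_lit 12, nat_lit 16, nat_lit 14, nat_lit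 17, nat_lit 16, nat_lit 13, nat_lit 16, nat_lit 14, nat_lit 17, nat_lit 16], [nat_lit 13, nat_lit 16, nat_lit 17, nat_lit 15, nat_lit 14, nat_lit 16, nat_lit 17, nat_lit 15], [nat_lit 11, nat_lit 15, nat_lit 14, nat_lit 16, nat_lit 13, nat_lit 15, nat_lit 17, nat_lit 16, nat_lit 14, nat_lit 15, nat_lit 13, nat_lit 16], [nat_lit 11, nat_lit 15, nat_lit 13, nat_lit 17, nat_lit 15, nat_lit 14, nat_lit 15, nat_lit 13, nat_lit 17, nat_lit 15], [nat_lit 12, nat_lit 16, nat_lit 13, nat_lit 17, nat_lit 16, nat_lit 14, nat_lit 16, nat_lit 13, nat_lit 17, nat_lit 16, nat_lit 17], [nat_lit 11, nat_lit 16, nat_lit 14, nat_lit 17, nat_lit 16, nat_lit 13, nat_lit 16, nat_lit 14, nat_lit 17, nat_lit 16], [nat_lit 15, nat_lit 14, nat_lit 17, nat_lit 15, nat_lit 13, nat_lit 15, nat_lit 14, nat_lit 17, nat_lit 15, nat_lit 17], [nat_lit 12, nat_lit 17, nat_lit 15, nat_lit 13, nat_lit 15, nat_lit 14, nat_lit 15, nat_lit 13, nat_lit 15], [nat_lit 12, nat_lit 17, nat_lit 15,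 nat_lit 13, nat_lit 15, nat_lit 14, nat_lit 15, nat_lit 13, nat_lit 15, nat_lit 17], [nat_lit 11, nat_lit 16, nat_lit 13, nat_lit 17, nat_lit 16, nat_lit 14, nat_lit 16, nat_lit 13, nat_lit 17, nat_lit 16], [nat_lit 15, nat_lit 13, nat_lit 17, nat_lit 15, nat_lit 14, nat_lit 15, nat_lit 13, nat_lit 17, nat_lit 15, nat_lit 17], [nat_lit 11, nat_lit 13, nat_lit 17, nat_lit 15, nat_lit 13, nat_lit 16, nat_lit 13, nat_lit 15, nat_lit 13, nat_lit 16], [nat_lit 11, nat_lit 13, nat_lit 17, nat_lit 15, nat_lit 13, nat_lit 16, nat_lit 13, nat_lit 15, nat_lit 13, nat_lit 16, nat_lit 17], [nat_lit 12, nat_lit 17, nat_lit 15, nat_lit 13, nat_lit 17, nat_lit 15, nat_lit 14, nat_lit 15, nat_lit 13, nat_lit 17, nat_lit 15], [nat_lit 11, nat_lit 15, nat_lit 17, nat_lit 16, nat_lit 13, nat_lit 15, nat_lit 17, nat_lit 16, nat_lit 17], [nat_lit 17, nat_lit 16, nat_lit 14, nat_lit 17, nat_lit 16, nat_lit 13, nat_lit 16, nat_lit 14, nat_lit 17, nat_lit 16], [nat_lit 11, nat_lit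 16, nat_lit 17, nat_lit 15, nat_lit 14, nat_lit 16, nat_lit 17, nat_lit 15, nat_lit 17], [nat_lit 15, nat_lit 17, nat_lit 16, nat_lit 14, nat_lit 15, nat_lit 17, nat_lit 16, nat_lit 17], [nat_lit 11, nat_lit 17, nat_lit 15, nat_lit 14, nat_lit 17, nat_lit 15, nat_lit 13, nat_lit 15, nat_lit 14, nat_lit 17, nat_lit 15], [nat_lit 13, nat_lit 15, nat_lit 17, nat_lit 16, nat_lit 14, nat_lit 15, nat_lit 17, nat_lit 16], [nat_lit 11, nat_lit 15, nat_lit 13, nat_lit 16, nat_lit 14, nat_lit 15, nat_lit 17, nat_lit 16, nat_lit 13, nat_lit 15, nat_lit 14, nat_lit 16], [nat_lit 17, nat_lit 15, nat_lit 13, nat_lit 15, nat_lit 14, nat_lit 15, nat_lit 13, nat_lit 15], [nat_lit 17, nat_lit 15, nat_lit 13, nat_lit 15, nat_lit 14, nat_lit 15, nat_lit 13, nat_lit 15, nat_lit 17], [nat_lit 11, nat_lit 14, nat_lit 16, nat_lit 17, nat_lit 15, nat_lit 13, nat_lit 16, nat_lit 17, nat_lit 15], [nat_lit 15, nat_lit 13, nat_lit 16, nat_lit 14, nat_lit 15, nat_lit 17, nat_lit 16,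 nat_lit 13, nat_lit 15, nat_lit 14, nat_lit 16], [nat_lit 12, nat_lit 13, nat_lit 15, nat_lit 14, nat_lit 17, nat_lit 15, nat_lit 13, nat_lit 15, nat_lit 14, nat_lit 17, nat_lit 15, nat_lit 17], [nat_lit 13, nat_lit 16, nat_lit 14, nat_lit 17, nat_lit 16, nat_lit 13, nat_lit 16, nat_lit 14, nat_lit 17, nat_lit 16], [nat_lit 11, nat_lit 14, nat_lit 15, nat_lit 17, nat_lit 16, nat_lit 13, nat_lit 15, nat_lit 17, nat_lit 16, nat_lit 17], [nat_lit 11, nat_lit 13, nat_lit 17, nat_lit 16, nat_lit 14, nat_lit 17, nat_lit 16, nat_lit 13, nat_lit 16, nat_lit 14, nat_lit 17, nat_lit 16], [nat_lit 14, nat_lit 16, nat_lit 17, nat_lit 15, nat_lit 13, nat_lit 16, nat_lit 17, nat_lit 15, nat_lit 17], [nat_lit 12, nat_lit 13, nat_lit 17, nat_lit 15, nat_lit 14, nat_lit 17, nat_lit 15, nat_lit 13, nat_lit 15, nat_lit 14, nat_lit 17, nat_lit 15], [nat_lit 13, nat_lit 16, nat_lit 14, nat_lit 17, nat_lit 16, nat_lit 13, nat_lit 16, nat_lit 14, nat_lit 17, nat_lit 16, nat_lit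 17], [nat_lit 12, nat_lit 13, nat_lit 15, nat_lit 14, nat_lit 17, nat_lit 15, nat_lit 13, nat_lit 15, nat_lit 14, nat_lit 17, nat_lit 15], [nat_lit 17, nat_lit 15, nat_lit 13, nat_lit 16, nat_lit 13, nat_lit 15, nat_lit 13, nat_lit 16], [nat_lit 17, nat_lit 15, nat_lit 13, nat_lit 16, nat_lit 13, nat_lit 15, nat_lit 13, nat_lit 16, nat_lit 17], [nat_lit 13, nat_lit 17], [nat_lit 15, nat_lit 13, nat_lit 15, nat_lit 14, nat_lit 15, nat_lit 13, nat_lit 15, nat_lit 17], [nat_lit 16, nat_lit 13, nat_lit 15, nat_lit 14, nat_lit 16, nat_lit 17, nat_lit 16, nat_lit 14, nat_lit 15, nat_lit 13, nat_lit 16], [nat_lit 12, nat_lit 16, nat_lit 17, nat_lit 15, nat_lit 14, nat_lit 16, nat_lit 17, nat_lit 15], [nat_lit 13, nat_lit 15, nat_lit 13, nat_lit 16, nat_lit 13, nat_lit 15, nat_lit 13, nat_lit 16, nat_lit 17], [nat_lit 17], [nat_lit 12, nat_lit 15, nat_lit 17, nat_lit 16, nat_lit 14, nat_lit 15, nat_lit 17, nat_lit 16], [nat_lit 15, nat_lit 13, nat_lit 16, nat_lit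 14, nat_lit 15, nat_lit 17, nat_lit 15, nat_lit 14, nat_lit 16, nat_lit 13, nat_lit 15], [nat_lit 15, nat_lit 14, nat_lit 16, nat_lit 13, nat_lit 15, nat_lit 17, nat_lit 16, nat_lit 14, nat_lit 15, nat_lit 13, nat_lit 16], [nat_lit 11, nat_lit 14, nat_lit 15, nat_lit 17, nat_lit 16, nat_lit 13, nat_lit 15, nat_lit 17, nat_lit 16], [nat_lit 11, nat_lit 13, nat_lit 16, nat_lit 14, nat_lit 17, nat_lit 16, nat_lit 13, nat_lit 16, nat_lit 14, nat_lit 17, nat_lit 16, nat_lit 17], [nat_lit 13, nat_lit 15, nat_lit 14, nat_lit 17, nat_lit 15, nat_lit 13, nat_lit 15, nat_lit 14, nat_lit 17, nat_lit 15], [nat_lit 14, nat_lit 15, nat_lit 17, nat_lit 16, nat_lit 13, nat_lit 15, nat_lit 17, nat_lit 16, nat_lit 17], [nat_lit 13, nat_lit 17, nat_lit 16, nat_lit 14, nat_lit 17, nat_lit 16, nat_lit 13, nat_lit 16, nat_lit 14, nat_lit 17, nat_lit 16], [nat_lit 14, nat_lit 17], [nat_lit 15, nat_lit 13, nat_lit 16, nat_lit 13, nat_lit 15, nat_lit 13, nat_lit 16, nat_lit 17],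 [nat_lit 13, nat_lit 17, nat_lit 15, nat_lit 13, nat_lit 16, nat_lit 13, nat_lit 15, nat_lit 13, nat_lit 16, nat_lit 17], [nat_lit 13, nat_lit 17, nat_lit 15, nat_lit 13, nat_lit 16, nat_lit 13, nat_lit 15, nat_lit 13, nat_lit 16], [nat_lit 13, nat_lit 17, nat_lit 15, nat_lit 14, nat_lit 17, nat_lit 15, nat_lit 13, nat_lit 15, nat_lit 14, nat_lit 17, nat_lit 15], [nat_lit 11, nat_lit 14, nat_lit 16, nat_lit 17, nat_lit 15, nat_lit 13, nat_lit 16, nat_lit 17, nat_lit 15, nat_lit 17], [nat_lit 14, nat_lit 15, nat_lit 13, nat_lit 17, nat_lit 15, nat_lit 14, nat_lit 15, nat_lit 13, nat_lit 17, nat_lit 15], [nat_lit 11, nat_lit 13, nat_lit 15, nat_lit 14, nat_lit 17, nat_lit 15, nat_lit 13, nat_lit 15, nat_lit 14, nat_lit 17, nat_lit 15, nat_lit 17], [nat_lit 16, nat_lit 13, nat_lit 17, nat_lit 16, nat_lit 14, nat_lit 16, nat_lit 13, nat_lit 17, nat_lit 16, nat_lit 17], [nat_lit 12, nat_lit 15, nat_lit 13, nat_lit 17, nat_lit 15, nat_lit 14, nat_lit 15, nat_lit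 13, nat_lit 17, nat_lit 15], [nat_lit 11, nat_lit 16, nat_lit 17, nat_lit 15, nat_lit 13, nat_lit 16, nat_lit 17, nat_lit 15, nat_lit 17], [nat_lit 17, nat_lit 16, nat_lit 13, nat_lit 17, nat_lit 16, nat_lit 14, nat_lit 16, nat_lit 13, nat_lit 17, nat_lit 16], [nat_lit 11, nat_lit 13, nat_lit 17, nat_lit 15, nat_lit 14, nat_lit 17, nat_lit 15, nat_lit 13, nat_lit 15, nat_lit 14, nat_lit 17, nat_lit 15], [nat_lit 13, nat_lit 15, nat_lit 17, nat_lit 16, nat_lit 14, nat_lit 15, nat_lit 17, nat_lit 16, nat_lit 17], [nat_lit 12, nat_lit 13, nat_lit 17, nat_lit 15, nat_lit 13, nat_lit 16, nat_lit 13, nat_lit 15, nat_lit 13, nat_lit 16], [nat_lit 12, nat_lit 13, nat_lit 17, nat_lit 15, nat_lit 13, nat_lit 16, nat_lit 13, nat_lit 15, nat_lit 13, nat_lit 16, nat_lit 17], [nat_lit 12, nat_lit 17], [nat_lit 12, nat_lit 13, nat_lit 15, nat_lit 13, nat_lit 16, nat_lit 13, nat_lit 15, nat_lit 13, nat_lit 16, nat_lit 17], [nat_lit 11, nat_lit 13, nat_lit 16, nat_lit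 14, nat_lit 17, nat_lit 16, nat_lit 13, nat_lit 16, nat_lit 14, nat_lit 17, nat_lit 16], [nat_lit 13, nat_lit 15, nat_lit 14, nat_lit 17, nat_lit 15, nat_lit 13, nat_lit 15, nat_lit 14, nat_lit 17, nat_lit 15, nat_lit 17]]

def CA : List (List ℕ) := [[], [17], [13,15,13,16,13,15,13,16], [13,17,15,13,16,13,15,13,16,17], [9,12,13,15,17,16,14,15,17,16,17], [9,12,13,16,17,15,14,16,17,15,17], [9,14,16,13,17,16,14,16,13,17,16], [11,13,16,14,17,16,13,16,14,17,16], [15,13,16,14,15,17,16,13,15,14,16], [15,14,16,13,15,17,16,14,15,13,16]]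

theorem cand {z : Grp} (h1 : Commute z (evL ev [11])) (h2 : Commute z (evL ev [13])) (h3 : z * z = 1) :
    ∃ c ∈ CA, z = evL ev c := by
  have := M.finite
  have e := cj_of_chk hev ora (c := [7]) (u := [11]) (v := [13]) (by decide +kernel)
  have e0 := (hφY.trF (w := [7]) (by decide +kernel) (p := 0) (by norm_num)).1
  rw [show trF Y.img [7] 0 = 7 by decide +kernel] at e0
  generalize evL ev [7] = u at e e0
  have f1 := cenY (z := u * z * u⁻¹) (by
    have := commute_cj h2 u⁻¹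
    rwa [← e, inv_inv, show u * (u⁻¹ * evL ev [11] * u) * u⁻¹ = evL ev [11] by group] at this) 0 (by simp)
  have f : ρ z ∈ fixS φY0 [7, 0] := List.forall_mem_cons.mpr ⟨by
    rw [map_mul, map_mul, map_inv, Equiv.Perm.mul_apply, Equiv.Perm.mul_apply, e0,
      ← Equiv.Perm.eq_inv_iff_eq, e0] at f1
    exact f1, cenY h1⟩
  obtain ⟨w, hw, ew⟩ := M.hφ.enum (bs := M.bs) (L := Lw)
    (ub_of_lb (lbY0.stepT hφY0 oW) (by norm_num) (a := 162) M.ub.top.2 le_rfl)
    (fun w hw => hφY0.mem_fixS (by simp) (by clear * - hw; revert w; decide +kernel))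
    (by decide +kernel) f
  have k := List.all_eq_true.mp (show (Lw.all fun w => movB M.img 275 18 M.bs (w ++ w) ||
    CA.any fun c => fixB M.img 18 M.bs (w ++ invW 1486034431776358958537884813664031080579328 c) && chk (c ++ c)) = true by decide +kernel) w hw
  rw [Bool.or_eq_true, List.any_eq_true] at k
  rcases k with k | ⟨c, hc, k⟩
  · exact absurd (by rw [evL_append, ew, ← map_mul, h3, map_one]) (M.hφ.mov k)
  rw [Bool.and_eq_true] at k
  obtain ⟨i, hi⟩ := ker (g := (evL ev c)⁻¹ * z) (by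
    rw [map_mul, map_inv, ρ_evL, ← ew, eq_of_chk M.hev M.main.2.2 k.1, inv_mul_cancel])
  have ez : z = evL ev c * ev 9 ^ i := by rw [show ev 9 ^ i = _ from hi, mul_inv_cancel_left]
  have c2 := ora _ k.2
  rw [evL_append] at c2
  rw [ez, mul_assoc, ← mul_assoc (ev 9 ^ i), ← Subgroup.mem_center_iff.mp (zpow_mem cen i), mul_assoc,
    ← mul_assoc, c2, one_mul] at h3
  have x3' : (ev 9 ^ i) ^ 3 = 1 := by
    rw [← zpow_natCast, ← zpow_mul, mul_comm, zpow_mul, zpow_natCast, x3, one_zpow]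
  rw [pow_succ, pow_two, h3, one_mul] at x3'
  exact ⟨c, hc, by rw [ez, x3', mul_one]⟩

/-- The substitution with a given image of the last letter. -/
def sc (c : List ℕ) : List (List ℕ) :=
  [[], [], [], [], [], [], [], [], [], [11], [12], [9], [10], [13], [14], [16], [15], c]

def KL : List ℕ := [9, 10, 11, 12, 13, 14, 15, 16, 17]

theorem pick {G : Type*} [Group G] {θ : Grp →* G} (hi : Function.Injective θ) {h : G}
    {c : List ℕ} (hc : c ∈ CA) (cj : Cj (fun l => θ (ev l)) h KL (sc c))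
    (tri : (h * θ (evL ev [2, 7, 2])) ^ 3 = 1) : c = [15,14,16,13,15,17,16,14,15,13,16] := by
  have ho : ∀ w, chk w = true → evL (fun l => θ (ev l)) w = 1 := fun w hw => by
    rw [← map_evL, ora w hw, map_one]
  have hm : ∀ w, movB M.img 275 18 M.bs w = true → evL (fun l => θ (ev l)) w ≠ 1 := fun w hw e =>
    hφM.mov hw (hi (by rw [map_evL, e, map_one]))
  have k := List.all_eq_true.mp (show (CA.all fun c => c == [15,14,16,13,15,17,16,14,15,13,16] || c == [15,13,16,14,15,17,16,13,15,14,16] ||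
    ([[17,9,14,16,17,9,14,16,17,9,14,16,17,9,14,16,17,9,14,16]] : List (List ℕ)).any fun r => r.all KL.elem && chk r &&
      movB M.img 275 18 M.bs (subst (sc c) r)) = true by decide +kernel) c hc
  simp only [Bool.or_eq_true, beq_iff_eq, List.any_eq_true, Bool.and_eq_true] at k
  rcases k with (k | rfl) | ⟨r, _, k⟩
  · exact k
  · exfalso
    rw [map_evL] at tri
    have s : ∀ u v, (u.all KL.elem && chk (invW 1486034431776358958537884813664031080579328 [2, 7, 2] ++ subst (sc [15,13,16,14,15,17,16,13,15,14,16]) u ++ [2, 7, 2] ++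
        invW 1486034431776358958537884813664031080579328 v)) = true → ∀ a, a = h * evL (fun l => θ (ev l)) [2, 7, 2] →
        a⁻¹ * evL (fun l => θ (ev l)) u * a = evL (fun l => θ (ev l)) v := fun u v e a ea => by
      rw [Bool.and_eq_true] at e
      rw [← cj_of_chk (hev.map θ) ho e.2, ← cj.word e.1, ea]
      group
    refine hm ([13,17,15,13,16,13,15,13,16,17] ++ invW 1486034431776358958537884813664031080579328 [17]) (by decide +kernel) ?_
    have s1 := s [17] [9,12,13,16,17,15,14,16,17,15,17] (by decide +kernel) _ rfl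
    have s2 := s [9,12,13,16,17,15,14,16,17,15,17] [15,13,16,14,15,17,16,13,15,14,16] (by decide +kernel) _ rfl
    have s3 := s [15,13,16,14,15,17,16,13,15,14,16] [13,17,15,13,16,13,15,13,16,17] (by decide +kernel) _ rfl
    generalize h * _ = a at tri s1 s2 s3
    rw [evL_append, evL_invW (hev.map θ), ← s3, ← s2, ← s1, mul_inv_eq_one]
    rw [pow_succ, pow_two] at tri
    rw [show a⁻¹ * (a⁻¹ * (a⁻¹ * evL (fun l => θ (ev l)) [17] * a) * a) * a =
      (a * a * a)⁻¹ * evL (fun l => θ (ev l)) [17] * (a * a * a) by simp only [mul_inv_rev, mul_assoc],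
      tri, inv_one, one_mul, mul_one]
  · exact absurd (by rw [← cj.word k.1.1, ho _ k.1.2]; group) (hm _ k.2)

theorem split : ∃ a b : M.Grp, Commute a (M.ev 11) ∧ Commute b (M.ev 11) ∧
    a * b * a⁻¹ * b⁻¹ = M.ev 11 := by
  have c : ∀ u, fixB M.img 18 M.bs (u ++ [11] ++ invW 1486034431776358958537884813664031080579328 ([11] ++ u)) = true →
      Commute (evL M.ev u) (M.ev 11) := fun u h => by
    have := eq_of_chk M.hev M.main.2.2 h
    rwa [evL_append, evL_append, evL_singleton] at this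
  refine ⟨_, _, c [15,17,16,17] (by decide +kernel), c [13,16,17,15,14,17] (by decide +kernel), ?_⟩
  rw [← evL_invW M.hev, ← evL_invW M.hev, ← evL_append, ← evL_append, ← evL_append,
    ← evL_singleton M.ev 11]
  exact eq_of_chk M.hev M.main.2.2 (by decide +kernel)

end Cfsg.H6.LR.H
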